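import Groth.Agent.GeomUnib.JacobsonDim
import Groth.Prelude.Def_Cyc

/-!
Dimension functions induced along morphisms locally of finite type.
-/

set_option autoImplicit false
set_option backward.isDefEq.respectTransparency.types false

universe u

open CategoryTheory AlgebraicGeometry TopologicalSpace

namespace Groth.Agent.DimFun

theorem exists_height_eq {R : Type u} [CommRing R] [IsNoetherianRing R] (P : Ideal R) [P.IsPrime] :
    ∃ n : ℕ, P.height = n :=
  ⟨_, (ENat.natCast_toNat Ideal.height_ne_top_of_isPrime).symm⟩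

/-- The predecessor of a prime in a longest chain. -/
theorem exists_pred {R : Type u} [CommRing R] [IsNoetherianRing R] (P : Ideal R) [P.IsPrime] {n : ℕ}
    (h : P.height = (n + 1 : ℕ)) : ∃ (Q : Ideal R) (_ : Q.IsPrime), Q < P ∧ Q.height = n := by
  obtain ⟨l, hl, hlen⟩ := Ideal.exists_ltSeries_length_eq_height P
  rw [h] at hlen
  have hlen' : l.length = n + 1 := by exact_mod_cast hlen
  let i : Fin (l.length + 1) := ⟨n, by omega⟩
  have hlt : l i < l (Fin.last l.length) := l.strictMono (by rw [Fin.lt_def]; show n < l.length; omega)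
  have hlt' : (l i).asIdeal < P := by
    have : l i < ⟨P, ‹_›⟩ := hl ▸ hlt
    exact this
  refine ⟨(l i).asIdeal, inferInstance, hlt', le_antisymm ?_ ?_⟩
  · have := Ideal.height_strict_mono_of_isPrime hlt'
    rw [h] at this
    obtain ⟨m, hm⟩ := exists_height_eq (l i).asIdeal
    rw [hm] at this ⊢
    have h' : m < n + 1 := by exact_mod_cast this
    exact_mod_cast Nat.lt_succ_iff.1 h'
  · have := Order.length_le_height (p := LTSeries.mk n (fun j : Fin (n + 1) => l ⟨j, by omega⟩)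
      (fun a b hab => l.strictMono (Fin.lt_def.2 (Fin.lt_def.1 hab)))) (x := l i) (le_of_eq rfl)
    rw [← PrimeSpectrum.height_eq_orderHeight] at this
    simpa using this

theorem height_pos {R : Type u} [CommRing R] [IsDomain R] [IsNoetherianRing R] (P : Ideal R) [P.IsPrime]
    (h : P ≠ ⊥) : 0 < P.height := by
  have := Ideal.height_strict_mono_of_isPrime (I := (⊥ : Ideal R)) (bot_lt_iff_ne_bot.2 h)
  exact lt_of_le_of_lt bot_le this

variable {S : Scheme.{u}}

theorem fromSpec_specializes_iff {U : S.Opens} (hU : IsAffineOpen U) (p q : PrimeSpectrum Γ(S, U)) :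
    hU.fromSpec p ⤳ hU.fromSpec q ↔ p.asIdeal ≤ q.asIdeal :=
  ⟨fun h => (PrimeSpectrum.le_iff_specializes p q).2 (hU.fromSpec.isOpenEmbedding.toIsInducing.specializes_iff.1 h),
    fun h => ((PrimeSpectrum.le_iff_specializes p q).1 h).map hU.fromSpec.continuous⟩

/-- Comparing primes above `g` through their images. -/
theorem comap_map_mk {R : Type u} [CommRing R] {g p : Ideal R} (h : g ≤ p) :
    (p.map (Ideal.Quotient.mk g)).comap (Ideal.Quotient.mk g) = p := by
  rw [Ideal.comap_map_of_surjective _ Ideal.Quotient.mk_surjective, ← RingHom.ker_eq_comap_bot, Ideal.mk_ker,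
    sup_eq_left.2 h]

theorem map_isPrime {R : Type u} [CommRing R] {g p : Ideal R} [p.IsPrime] (h : g ≤ p) :
    (p.map (Ideal.Quotient.mk g)).IsPrime :=
  Ideal.map_isPrime_of_surjective Ideal.Quotient.mk_surjective (by rwa [Ideal.mk_ker])

/-- Points between two points of an affine open. -/
theorem eq_or_eq_of_height_le {U : S.Opens} (hU : IsAffineOpen U) [IsNoetherianRing Γ(S, U)]
    {g q p : PrimeSpectrum Γ(S, U)} (hgq : g.asIdeal ≤ q.asIdeal) {z : S} (h₁ : hU.fromSpec q ⤳ z)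
    (h₂ : z ⤳ hU.fromSpec p)
    (hh : (p.asIdeal.map (Ideal.Quotient.mk g.asIdeal)).height ≤
      (q.asIdeal.map (Ideal.Quotient.mk g.asIdeal)).height + 1) :
    z = hU.fromSpec q ∨ z = hU.fromSpec p := by
  obtain ⟨r, rfl⟩ : z ∈ Set.range hU.fromSpec := h₂.mem_open hU.fromSpec.isOpenMap.isOpen_range ⟨p, rfl⟩
  rw [fromSpec_specializes_iff] at h₁ h₂
  by_contra hcon
  push Not at hcon
  have hqr : q.asIdeal < r.asIdeal := lt_of_le_of_ne h₁ fun e => hcon.1 (by rw [PrimeSpectrum.ext e])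
  have hrp : r.asIdeal < p.asIdeal := lt_of_le_of_ne h₂ fun e => hcon.2 (by rw [PrimeSpectrum.ext e])
  have := map_isPrime hgq
  have := map_isPrime (hgq.trans h₁)
  have hlt : ∀ {a b : Ideal Γ(S, U)}, g.asIdeal ≤ a → a < b → a.map (Ideal.Quotient.mk g.asIdeal) < b.map (Ideal.Quotient.mk g.asIdeal) :=
    fun {a b} ha hab => lt_of_le_of_ne (Ideal.map_mono hab.le) fun e => hab.ne (by
      rw [← comap_map_mk ha, ← comap_map_mk (ha.trans hab.le), e])
  have := map_isPrime ((hgq.trans h₁).trans h₂)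
  have a₁ := Ideal.height_strict_mono_of_isPrime (hlt hgq hqr)
  have a₂ := Ideal.height_strict_mono_of_isPrime (hlt (hgq.trans h₁) hrp)
  obtain ⟨a, ha⟩ := exists_height_eq (q.asIdeal.map (Ideal.Quotient.mk g.asIdeal))
  obtain ⟨b, hb⟩ := exists_height_eq (r.asIdeal.map (Ideal.Quotient.mk g.asIdeal))
  obtain ⟨c, hc⟩ := exists_height_eq (p.asIdeal.map (Ideal.Quotient.mk g.asIdeal))
  rw [ha, hb] at a₁
  rw [hb, hc] at a₂
  rw [ha, hc] at hh
  have a₁' : a < b := by exact_mod_cast a₁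
  have a₂' : b < c := by exact_mod_cast a₂
  have hh' : c ≤ a + 1 := by exact_mod_cast hh
  omega

/-- A dimension function drops along a specialisation by the height. -/
theorem eq_add_height {δ : S → ℤ} (hδ : Cyc.IsDimFun S δ) {U : S.Opens} (hU : IsAffineOpen U)
    [IsNoetherianRing Γ(S, U)] (g : PrimeSpectrum Γ(S, U)) :
    ∀ (n : ℕ) (p : PrimeSpectrum Γ(S, U)), g.asIdeal ≤ p.asIdeal →
      (p.asIdeal.map (Ideal.Quotient.mk g.asIdeal)).height = n → δ (hU.fromSpec g) = δ (hU.fromSpec p) + n := by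
  intro n
  induction n with
  | zero =>
    intro p hle h
    have := map_isPrime hle
    have e : p.asIdeal.map (Ideal.Quotient.mk g.asIdeal) = ⊥ := by
      by_contra hne
      exact (height_pos _ hne).ne' (by rw [h]; rfl)
    have : p.asIdeal = g.asIdeal := by
      rw [← comap_map_mk hle, e, ← RingHom.ker_eq_comap_bot, Ideal.mk_ker]
    rw [PrimeSpectrum.ext this]
    simp
  | succ n ih =>
    intro p hle h
    have := map_isPrime hle
    obtain ⟨Q, hQ, hQlt, hQh⟩ := exists_pred _ h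
    let q : PrimeSpectrum Γ(S, U) := ⟨Q.comap (Ideal.Quotient.mk g.asIdeal), inferInstance⟩
    have hgq : g.asIdeal ≤ q.asIdeal := fun a ha => by
      show Ideal.Quotient.mk g.asIdeal a ∈ Q
      rw [Ideal.Quotient.eq_zero_iff_mem.2 ha]
      exact zero_mem _
    have hqm : q.asIdeal.map (Ideal.Quotient.mk g.asIdeal) = Q :=
      Ideal.map_comap_of_surjective _ Ideal.Quotient.mk_surjective _
    have hqp : q.asIdeal ≤ p.asIdeal := by rw [← comap_map_mk hle]; exact Ideal.comap_mono hQlt.le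
    have hne : hU.fromSpec q ≠ hU.fromSpec p := fun e => hQlt.ne (by
      rw [← hqm, hU.fromSpec.isOpenEmbedding.injective e])
    rw [ih q hgq (hqm.symm ▸ hQh), (hδ _ _ ((fromSpec_specializes_iff hU q p).2 hqp) hne).2 fun z h₁ h₂ =>
      eq_or_eq_of_height_le hU hgq h₁ h₂ (by rw [h, hqm, hQh]; exact_mod_cast le_rfl)]
    push_cast
    ring

/-- Transcendence degree passes to fraction fields. -/
theorem trdeg_eq_of_fractions {R D : Type u} [CommRing R] [IsDomain R] [CommRing D] [IsDomain D] [Algebra R D]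
    [FaithfulSMul R D] {K F : Type u} [Field K] [Field F] [Algebra K F] (rR : R →+* K) (rD : D →+* F)
    (hD : Function.Injective rD) (hcomm : ∀ a, rD (algebraMap R D a) = algebraMap K F (rR a))
    (hK : ∀ z : K, ∃ a b, z = rR a / rR b) (hF : ∀ z : F, ∃ a b, z = rD a / rD b) :
    Algebra.trdeg K F = Algebra.trdeg R D := by
  let _ : Algebra R K := rR.toAlgebra
  let _ : Algebra D F := rD.toAlgebra
  let _ : Algebra R F := ((algebraMap K F).comp rR).toAlgebra
  have : IsScalarTower R K F := IsScalarTower.of_algebraMap_eq' rfl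
  have : IsScalarTower R D F := IsScalarTower.of_algebraMap_eq fun a => (hcomm a).symm
  have hR : Function.Injective rR := fun a b e => FaithfulSMul.algebraMap_injective R D (hD (by
    rw [hcomm, hcomm, e]))
  have : FaithfulSMul R K := (faithfulSMul_iff_algebraMap_injective R K).2 hR
  have : FaithfulSMul D F := (faithfulSMul_iff_algebraMap_injective D F).2 hD
  have : FaithfulSMul K F := (faithfulSMul_iff_algebraMap_injective K F).2 (algebraMap K F).injective
  have : IsFractionRing R K := IsFractionRing.of_field R K hK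
  have : IsFractionRing D F := IsFractionRing.of_field D F hF
  have : Algebra.IsAlgebraic R K := IsLocalization.isAlgebraic K (nonZeroDivisors R)
  have : Algebra.IsAlgebraic D F := IsLocalization.isAlgebraic F (nonZeroDivisors D)
  have h₁ := trdeg_add_eq R K (A := F)
  have h₂ := trdeg_add_eq R D (A := F)
  rw [trdeg_eq_zero, zero_add] at h₁
  rw [trdeg_eq_zero (R := D) (A := F), add_zero] at h₂
  rw [h₁, h₂]

variable {X : Scheme.{u}}

/-- Sections to the residue field. -/
noncomputable def evalRes {V : X.Opens} {x : X} (hx : x ∈ V) : Γ(X, V) →+* X.residueField x :=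
  (X.evaluation V x hx).hom

theorem evalRes_fractions {V : X.Opens} (hV : IsAffineOpen V) {x : X} (hx : x ∈ V) (z : X.residueField x) :
    ∃ a b, z = evalRes hx a / evalRes hx b := by
  let _ := TopCat.Presheaf.algebra_section_stalk X.presheaf ⟨x, hx⟩
  have : IsLocalization.AtPrime (X.presheaf.stalk x) (hV.primeIdealOf ⟨x, hx⟩).asIdeal :=
    hV.isLocalization_stalk ⟨x, hx⟩
  obtain ⟨w, rfl⟩ := IsLocalRing.residue_surjective z
  obtain ⟨a, b, rfl⟩ := IsLocalization.exists_mk'_eq (hV.primeIdealOf ⟨x, hx⟩).asIdeal.primeCompl w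
  refine ⟨a, b.1, eq_div_of_mul_eq ?_ ?_⟩
  · show IsLocalRing.residue _ (algebraMap Γ(X, V) (X.presheaf.stalk x) b.1) ≠ 0
    rw [IsLocalRing.residue_ne_zero_iff_isUnit]
    exact IsLocalization.map_units (X.presheaf.stalk x) b
  · show IsLocalRing.residue _ _ * IsLocalRing.residue _ (algebraMap Γ(X, V) (X.presheaf.stalk x) b.1) =
      IsLocalRing.residue _ (algebraMap Γ(X, V) (X.presheaf.stalk x) a)
    exact (map_mul (IsLocalRing.residue _) _ _).symm.trans (congrArg _ (IsLocalization.mk'_spec _ a b))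

theorem evalRes_eq_zero_iff {V : X.Opens} (hV : IsAffineOpen V) {x : X} (hx : x ∈ V) (a : Γ(X, V)) :
    evalRes hx a = 0 ↔ a ∈ (hV.primeIdealOf ⟨x, hx⟩).asIdeal := by
  let _ := TopCat.Presheaf.algebra_section_stalk X.presheaf ⟨x, hx⟩
  have : IsLocalization.AtPrime (X.presheaf.stalk x) (hV.primeIdealOf ⟨x, hx⟩).asIdeal :=
    hV.isLocalization_stalk ⟨x, hx⟩
  show IsLocalRing.residue _ (algebraMap Γ(X, V) (X.presheaf.stalk x) a) = 0 ↔ _
  rw [IsLocalRing.residue_eq_zero_iff]
  exact IsLocalization.AtPrime.to_map_mem_maximal_iff (X.presheaf.stalk x) _ a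

theorem evalRes_comm (f : X ⟶ S) {U : S.Opens} {V : X.Opens} (hVU : V ≤ f ⁻¹ᵁ U) {x : X} (hx : x ∈ V) (a : Γ(S, U)) :
    evalRes hx (f.appLE U V hVU a) = (f.residueFieldMap x).hom (evalRes (X := S) (V := U) (hVU hx) a) := by
  show IsLocalRing.residue _ (X.presheaf.germ V x hx (f.appLE U V hVU a)) =
    IsLocalRing.residue _ ((f.stalkMap x) (S.presheaf.germ U (f x) (hVU hx) a))
  rw [Scheme.Hom.germ_stalkMap_apply, Scheme.Hom.appLE, CommRingCat.comp_apply, TopCat.Presheaf.germ_res_apply]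

/-- The function induced along a morphism locally of finite type is a dimension function. -/
theorem isDimFun_of_compat (f : X ⟶ S) [LocallyOfFiniteType f] (δ : S → ℤ) (hS : Cyc.IsSetup S δ)
    (δX : X → ℤ) (hδ : Cyc.DeltaCompat f δX δ) : Cyc.IsDimFun X δX := by
  obtain ⟨hN, hcat, hdim⟩ := hS
  intro x y hxy hne
  obtain ⟨U, hU, hyU, -⟩ := exists_isAffineOpen_mem_and_subset (X := S) (x := f y) (U := ⊤) trivial
  obtain ⟨V, hV, hyV, hVU⟩ := exists_isAffineOpen_mem_and_subset (X := X) (x := y) (U := f ⁻¹ᵁ U) hyU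
  have hxV : x ∈ V := hxy.mem_open V.2 hyV
  let _ := (f.appLE U V hVU).hom.toAlgebra
  have : Algebra.FiniteType Γ(S, U) Γ(X, V) := RingHom.finiteType_algebraMap.1 (f.finiteType_appLE hU hV hVU)
  have : IsNoetherianRing Γ(S, U) := IsLocallyNoetherian.component_noetherian ⟨U, hU⟩
  have : IsNoetherianRing Γ(X, V) := Algebra.FiniteType.isNoetherianRing Γ(S, U) Γ(X, V)
  set q₀ := hV.primeIdealOf ⟨x, hxV⟩ with hq₀
  set q := hV.primeIdealOf ⟨y, hyV⟩ with hq
  have hqy : hV.fromSpec q = y := hV.fromSpec_primeIdealOf _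
  have hq₀x : hV.fromSpec q₀ = x := hV.fromSpec_primeIdealOf _
  have hle : q₀.asIdeal ≤ q.asIdeal := (fromSpec_specializes_iff hV q₀ q).1 (by rwa [hq₀x, hqy])
  let p₀ : PrimeSpectrum Γ(S, U) := PrimeSpectrum.comap (algebraMap Γ(S, U) Γ(X, V)) q₀
  let p : PrimeSpectrum Γ(S, U) := PrimeSpectrum.comap (algebraMap Γ(S, U) Γ(X, V)) q
  have hp : hU.fromSpec p = f y := by
    rw [← hqy, ← Scheme.Hom.comp_apply hV.fromSpec f, ← IsAffineOpen.SpecMap_appLE_fromSpec f hU hV hVU,
      Scheme.Hom.comp_apply]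
    rfl
  have hp₀ : hU.fromSpec p₀ = f x := by
    rw [← hq₀x, ← Scheme.Hom.comp_apply hV.fromSpec f, ← IsAffineOpen.SpecMap_appLE_fromSpec f hU hV hVU,
      Scheme.Hom.comp_apply]
    rfl
  have hple : p₀.asIdeal ≤ p.asIdeal := Ideal.comap_mono hle
  have := map_isPrime hple
  have := map_isPrime hle
  have : Algebra.FiniteType Γ(S, U) (Γ(X, V) ⧸ q₀.asIdeal) :=
    Algebra.FiniteType.of_surjective (Ideal.Quotient.mkₐ Γ(S, U) q₀.asIdeal) Ideal.Quotient.mk_surjective
  have : Algebra.FiniteType (Γ(S, U) ⧸ q₀.asIdeal.under Γ(S, U)) (Γ(X, V) ⧸ q₀.asIdeal) :=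
    Algebra.FiniteType.of_restrictScalars_finiteType Γ(S, U) _ _
  have hinj : FaithfulSMul (Γ(S, U) ⧸ q₀.asIdeal.under Γ(S, U)) (Γ(X, V) ⧸ q₀.asIdeal) :=
    (faithfulSMul_iff_algebraMap_injective _ _).2 (Ideal.quotientMap_injective' le_rfl)
  set q₁ := q.asIdeal.map (Ideal.Quotient.mk q₀.asIdeal) with hq₁
  have hp₁c : (q₁.under (Γ(S, U) ⧸ q₀.asIdeal.under Γ(S, U))).comap
      (Ideal.Quotient.mk (q₀.asIdeal.under Γ(S, U))) = p.asIdeal := by
    show _ = q.asIdeal.comap (algebraMap Γ(S, U) Γ(X, V))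
    rw [← comap_map_mk hle, Ideal.comap_comap, Ideal.comap_comap]
    rfl
  obtain ⟨hq', hp', b, e, h1, h2, hb, he, hsum⟩ := GeomUnib.height_formula q₁
    (GeomUnib.isUniversallyCatenary_localization hU p (hcat _) _ _ hp₁c)
  have hp₁ : q₁.under (Γ(S, U) ⧸ q₀.asIdeal.under Γ(S, U)) = p.asIdeal.map (Ideal.Quotient.mk p₀.asIdeal) := by
    rw [← hp₁c]
    exact (Ideal.map_comap_of_surjective _ Ideal.Quotient.mk_surjective _).symm
  have hS' : δ (f x) = δ (f y) + hp' := by
    rw [← hp, ← hp₀]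
    exact eq_add_height hdim hU p₀ hp' p hple ((congrArg Ideal.height hp₁).symm.trans h2)
  obtain ⟨ex, hex, hδx⟩ := hδ x
  obtain ⟨ey, hey, hδy⟩ := hδ y
  -- the generic transcendence degree
  let _ := (f.residueFieldMap x).hom.toAlgebra
  have hxe : ex = e := by
    have h := trdeg_eq_of_fractions (R := Γ(S, U) ⧸ q₀.asIdeal.under Γ(S, U)) (D := Γ(X, V) ⧸ q₀.asIdeal)
      (Ideal.Quotient.lift _ (evalRes (X := S) (V := U) (hVU hxV)) fun a ha => by
        refine (f.residueFieldMap x).hom.injective ?_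
        rw [map_zero, ← evalRes_comm f hVU hxV, evalRes_eq_zero_iff hV hxV]
        exact ha)
      (Ideal.Quotient.lift _ (evalRes hxV) fun a ha => (evalRes_eq_zero_iff hV hxV a).2 ha)
      ((injective_iff_map_eq_zero _).2 fun a ha => by
        obtain ⟨a, rfl⟩ := Ideal.Quotient.mk_surjective a
        exact Ideal.Quotient.eq_zero_iff_mem.2 ((evalRes_eq_zero_iff hV hxV a).1 ha))
      (fun a => by
        obtain ⟨a, rfl⟩ := Ideal.Quotient.mk_surjective a
        exact evalRes_comm f hVU hxV a)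
      (fun z => by
        obtain ⟨a, b, rfl⟩ := evalRes_fractions hU (hVU hxV) z
        exact ⟨Ideal.Quotient.mk _ a, Ideal.Quotient.mk _ b, rfl⟩)
      (fun z => by
        obtain ⟨a, b, rfl⟩ := evalRes_fractions hV hxV z
        exact ⟨Ideal.Quotient.mk _ a, Ideal.Quotient.mk _ b, rfl⟩)
    exact_mod_cast hex.symm.trans (h.trans he)
  have hyb : ey = b := by
    let _ := (f.residueFieldMap y).hom.toAlgebra
    let p₁ := q₁.under (Γ(S, U) ⧸ q₀.asIdeal.under Γ(S, U))
    let rB : Γ(X, V) ⧸ q₀.asIdeal →+* X.residueField y :=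
      Ideal.Quotient.lift _ (evalRes hyV) fun a ha => (evalRes_eq_zero_iff hV hyV a).2 (hle ha)
    have hker : ∀ a, rB a = 0 ↔ a ∈ q₁ := fun a => by
      obtain ⟨a, rfl⟩ := Ideal.Quotient.mk_surjective a
      rw [show rB (Ideal.Quotient.mk _ a) = evalRes hyV a from rfl, evalRes_eq_zero_iff hV hyV, ← hq,
        ← Ideal.mem_comap, comap_map_mk hle]
    let rA : Γ(S, U) ⧸ q₀.asIdeal.under Γ(S, U) →+* S.residueField (f y) :=
      Ideal.Quotient.lift _ (evalRes (X := S) (V := U) (hVU hyV)) fun a ha => by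
        refine (f.residueFieldMap y).hom.injective ?_
        rw [map_zero, ← evalRes_comm f hVU hyV, evalRes_eq_zero_iff hV hyV]
        exact hle ha
    have hcomm : ∀ a, rB (algebraMap _ _ a) = (f.residueFieldMap y).hom (rA a) := fun a => by
      obtain ⟨a, rfl⟩ := Ideal.Quotient.mk_surjective a
      exact evalRes_comm f hVU hyV a
    have : FaithfulSMul ((Γ(S, U) ⧸ q₀.asIdeal.under Γ(S, U)) ⧸ p₁) ((Γ(X, V) ⧸ q₀.asIdeal) ⧸ q₁) :=
      (faithfulSMul_iff_algebraMap_injective _ _).2 (Ideal.quotientMap_injective' le_rfl)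
    have h := trdeg_eq_of_fractions (R := (Γ(S, U) ⧸ q₀.asIdeal.under Γ(S, U)) ⧸ p₁) (D := (Γ(X, V) ⧸ q₀.asIdeal) ⧸ q₁)
      (Ideal.Quotient.lift _ rA fun a ha => by
        refine (f.residueFieldMap y).hom.injective ?_
        rw [map_zero, ← hcomm, hker]
        exact ha)
      (Ideal.Quotient.lift _ rB fun a ha => (hker a).2 ha)
      ((injective_iff_map_eq_zero _).2 fun a ha => by
        obtain ⟨a, rfl⟩ := Ideal.Quotient.mk_surjective a
        exact Ideal.Quotient.eq_zero_iff_mem.2 ((hker a).1 ha))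
      (fun a => by
        obtain ⟨a, rfl⟩ := Ideal.Quotient.mk_surjective a
        exact hcomm a)
      (fun z => by
        obtain ⟨a, b, rfl⟩ := evalRes_fractions hU (hVU hyV) z
        exact ⟨Ideal.Quotient.mk _ (Ideal.Quotient.mk _ a), Ideal.Quotient.mk _ (Ideal.Quotient.mk _ b), rfl⟩)
      (fun z => by
        obtain ⟨a, b, rfl⟩ := evalRes_fractions hV hyV z
        exact ⟨Ideal.Quotient.mk _ (Ideal.Quotient.mk _ a), Ideal.Quotient.mk _ (Ideal.Quotient.mk _ b), rfl⟩)
    exact_mod_cast hey.symm.trans (h.trans hb)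
  have hkey : δX x = δX y + hq' := by
    rw [hδx, hδy, hS', hxe, hyb]
    omega
  have hpos : 1 ≤ hq' := by
    rcases Nat.eq_zero_or_pos hq' with h0 | h0
    · exfalso
      have e0 : q₁ = ⊥ := by
        by_contra hne'
        exact (height_pos _ hne').ne' (by rw [h1, h0]; rfl)
      refine hne ?_
      rw [← hqy, ← hq₀x]
      refine congrArg _ (PrimeSpectrum.ext ?_)
      rw [← comap_map_mk hle, ← hq₁, e0, ← RingHom.ker_eq_comap_bot, Ideal.mk_ker]
    · exact h0
  refine ⟨by omega, fun himm => ?_⟩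
  suffices hq' ≤ 1 by omega
  by_contra hgt
  obtain ⟨m, rfl⟩ : ∃ m, hq' = m + 1 := ⟨hq' - 1, by omega⟩
  obtain ⟨Q, hQ, hQlt, hQh⟩ := exists_pred q₁ h1
  let z : PrimeSpectrum Γ(X, V) := ⟨Q.comap (Ideal.Quotient.mk q₀.asIdeal), inferInstance⟩
  have hz₀ : q₀.asIdeal ≤ z.asIdeal := fun a ha => by
    show Ideal.Quotient.mk q₀.asIdeal a ∈ Q
    rw [Ideal.Quotient.eq_zero_iff_mem.2 ha]
    exact zero_mem _
  have hzm : z.asIdeal.map (Ideal.Quotient.mk q₀.asIdeal) = Q :=
    Ideal.map_comap_of_surjective _ Ideal.Quotient.mk_surjective _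
  have hz₁ : z.asIdeal ≤ q.asIdeal := by rw [← comap_map_mk hle]; exact Ideal.comap_mono hQlt.le
  rcases himm (hV.fromSpec z) (hq₀x ▸ (fromSpec_specializes_iff hV q₀ z).2 hz₀)
      (hqy ▸ (fromSpec_specializes_iff hV z q).2 hz₁) with e' | e'
  · rw [← hq₀x] at e'
    rw [hV.fromSpec.isOpenEmbedding.injective e'] at hzm
    rw [← hzm, Ideal.map_quotient_self] at hQh
    have hm : (0 : ℕ∞) = (m : ℕ∞) := Ideal.height_bot.symm.trans hQh
    have : m = 0 := by exact_mod_cast hm.symm
    omega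
  · rw [← hqy] at e'
    rw [hV.fromSpec.isOpenEmbedding.injective e', ← hq₁] at hzm
    exact hQlt.ne hzm.symm

end Groth.Agent.DimFun
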