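import Groth.Prelude.Def_Cyc
import Groth.Prelude.Def_Algz

/-!
Dimension functions bound distances.
-/

set_option autoImplicit false

universe u

open AlgebraicGeometry TopologicalSpace

namespace Groth.Agent.DimFun

variable {Y : Scheme.{u}} {δ : Y → ℤ}

theorem le_of_spec (hδ : Cyc.IsDimFun Y δ) {x y : Y} (h : x ⤳ y) : δ y ≤ δ x := by
  rcases eq_or_ne x y with rfl | hne
  · exact le_rfl
  · exact (hδ x y h hne).1.le

/-- A dimension function measures codimension. -/
theorem codimPt_eq (hδ : Cyc.IsDimFun Y δ) {w v : Y} (h : w ⤳ v) :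
    Algz.codimPt w v h = ((δ w - δ v).toNat : ℕ∞) := by
  classical
  have hle : ∀ a b : Specialization Y, a ≤ b ↔ Specialization.ofEquiv b ⤳ Specialization.ofEquiv a := fun a b =>
    Iff.rfl
  have hlt : ∀ {a b : Specialization Y}, a < b → δ (Specialization.ofEquiv a) < δ (Specialization.ofEquiv b) :=
    fun {a b} hab => (hδ _ _ ((hle a b).1 hab.le) (fun e => hab.ne (Specialization.ofEquiv.injective e.symm))).1
  refine le_antisymm ?_ ?_
  · refine Order.height_le fun p hp => ?_
    have hmono : StrictMono fun i => δ (Specialization.ofEquiv (p i).1) := fun i j hij => hlt (p.strictMono hij)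
    have key : ∀ i : Fin (p.length + 1), δ v + i.val ≤ δ (Specialization.ofEquiv (p i).1) := by
      intro i
      induction i using Fin.induction with
      | zero =>
        have := le_of_spec hδ ((hle _ _).1 (p 0).2)
        simpa using this
      | succ i ih =>
        have := hmono (Fin.castSucc_lt_succ (i := i))
        simp only [Fin.val_succ, Fin.val_castSucc] at ih this ⊢
        push_cast
        omega
    have h' := key (Fin.last p.length)
    have e : Specialization.ofEquiv (p (Fin.last p.length)).1 = w := by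
      rw [show p (Fin.last p.length) = _ from hp]
      rfl
    rw [e, Fin.val_last] at h'
    exact_mod_cast (show p.length ≤ (δ w - δ v).toNat by omega)
  · suffices H : ∀ (d : ℕ) (v' : Y) (h₁ : v' ⤳ v) (h₂ : w ⤳ v'), δ w - δ v' = d →
        ∃ p : LTSeries (Set.Ici (Specialization.toEquiv v)), p.length = d ∧
          p.head.1 = Specialization.toEquiv v' ∧
          p.last.1 = Specialization.toEquiv w by
      obtain ⟨p, hlen, -, hlast⟩ := H (δ w - δ v).toNat v specializes_rfl h (by have := le_of_spec hδ h; omega)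
      rw [← hlen]
      exact Order.length_le_height (le_of_eq (Subtype.ext hlast))
    intro d
    induction d with
    | zero =>
      intro v' h₁ h₂ hd
      have : w = v' := by
        by_contra hne
        have := (hδ w v' h₂ hne).1
        omega
      exact ⟨RelSeries.singleton _ ⟨Specialization.toEquiv v', Specialization.toEquiv_le_toEquiv.2 h₁⟩, rfl, rfl,
        congrArg Specialization.toEquiv this.symm⟩
    | succ d ih =>
      intro v' h₁ h₂ hd
      have hwne : w ≠ v' := fun e => by rw [e] at hd; omega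
      have hex : ∃ n : ℕ, ∃ z, w ⤳ z ∧ z ⤳ v' ∧ z ≠ v' ∧ δ z = δ v' + n :=
        ⟨(δ w - δ v').toNat, w, specializes_rfl, h₂, hwne, by omega⟩
      obtain ⟨z, hz₁, hz₂, hz₃, hz₄⟩ := Nat.find_spec hex
      have himm : δ z = δ v' + 1 := (hδ z v' hz₂ hz₃).2 fun y hy₁ hy₂ => by
        by_contra hcon
        push Not at hcon
        have hy₃ := (hδ z y hy₁ (Ne.symm hcon.1)).1
        have hy₄ := (hδ y v' hy₂ hcon.2).1
        have := Nat.find_min' hex ⟨y, hz₁.trans hy₁, hy₂, hcon.2,
          show δ y = δ v' + ((δ y - δ v').toNat : ℤ) by omega⟩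
        omega
      obtain ⟨p, hlen, hhead, hlast⟩ := ih z (hz₂.trans h₁) hz₁ (by omega)
      have hrel : (⟨Specialization.toEquiv v', Specialization.toEquiv_le_toEquiv.2 h₁⟩ :
          Set.Ici (Specialization.toEquiv v)) < p.head := by
        rw [← Subtype.coe_lt_coe, hhead]
        refine lt_of_le_not_ge (Specialization.toEquiv_le_toEquiv.2 hz₂) fun hge => ?_
        have := le_of_spec hδ (Specialization.toEquiv_le_toEquiv.1 hge)
        omega
      refine ⟨p.cons _ hrel, ?_, ?_, ?_⟩
      · simp [hlen]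
      · rw [RelSeries.head_cons]
      · rw [RelSeries.last_cons]; exact hlast

/-- The distance bounds the drop of a dimension function. -/
theorem le_deltaZ_add (hδ : Cyc.IsDimFun Y δ) {Z : Set Y} {y : Y} {n : ℕ} (hn : Algz.deltaZ Z y = n) :
    ∃ z ∈ Z, δ y ≤ n + δ z := by
  classical
  have hne : ∃ (k : ℕ) (T : Algz.DSystem Z y k), T.delta = n := by
    by_contra hcon
    push Not at hcon
    have : ((n : ℕ∞) + 1) ≤ Algz.deltaZ Z y := le_iInf fun k => le_iInf fun T => Order.add_one_le_of_lt
      (lt_of_le_of_ne (hn ▸ iInf_le_of_le k (iInf_le _ T)) (hcon k T).symm)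
    rw [hn] at this
    have h' : n + 1 ≤ n := by exact_mod_cast this
    omega
  obtain ⟨k, T, hT⟩ := hne
  refine ⟨T.v 0, T.start_mem, ?_⟩
  let c : Fin (k + 1) → ℕ := fun i => (δ (T.w i) - δ (T.v i)).toNat
  let b : Fin k → ℕ := fun i => (δ (T.w i.castSucc) - δ (T.v i.succ)).toNat
  have hc : ∀ i, T.c i = (c i : ℕ∞) := fun i => codimPt_eq hδ (T.spec i)
  have hb : ∀ i, T.b i = (b i : ℕ∞) := fun i => codimPt_eq hδ (T.spec_succ i)
  have hci : ∀ i, (c i : ℤ) = δ (T.w i) - δ (T.v i) := fun i => by
    have := le_of_spec hδ (T.spec i)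
    show ((δ (T.w i) - δ (T.v i)).toNat : ℤ) = _
    omega
  have hbi : ∀ i, (b i : ℤ) = δ (T.w i.castSucc) - δ (T.v i.succ) := fun i => by
    have := le_of_spec hδ (T.spec_succ i)
    show ((δ (T.w i.castSucc) - δ (T.v i.succ)).toNat : ℤ) = _
    omega
  have h0 : ((∑ j, c j : ℕ) : ℕ∞) - ((∑ j, b j : ℕ) : ℕ∞) ≤ (n : ℕ∞) := by
    rw [← hT, Algz.DSystem.delta]
    refine le_trans ?_ le_add_self
    refine le_trans (le_of_eq ?_) (Finset.le_sup (Finset.mem_univ (0 : Fin (k + 1))))
    simp [hc, hb]
  have h1 : (∑ j, c j) - (∑ j, b j) ≤ n := by exact_mod_cast h0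
  have h2 : ((∑ j, c j : ℕ) : ℤ) - ((∑ j, b j : ℕ) : ℤ) = δ y - δ (T.v 0) := by
    push_cast
    simp only [hci, hbi, Finset.sum_sub_distrib]
    rw [Fin.sum_univ_castSucc (f := fun i => δ (T.w i)), Fin.sum_univ_succ (f := fun i => δ (T.v i)), T.last_eq]
    ring
  omega

end Groth.Agent.DimFun
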