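import Groth.Agent.DimFun.Basic
import Groth.Agent.DepthLib.RegularLocal

/-!
Minus the dimension of the local ring is a dimension function on regular universally catenary schemes.
-/

set_option autoImplicit false
set_option backward.isDefEq.respectTransparency.types false

universe u

open CategoryTheory AlgebraicGeometry TopologicalSpace

namespace Groth.Agent.DimFun

theorem isDimFun_neg_dim {S : Scheme.{u}} [IsLocallyNoetherian S]
    (hreg : ∀ s : S, IsRegularLocalRing (S.presheaf.stalk s))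
    (huc : ∀ s : S, CAlg.IsUniversallyCatenary (S.presheaf.stalk s))
    (δ : S → ℤ) (hδ : ∀ s : S, ringKrullDim (S.presheaf.stalk s) = ((-δ s).toNat : WithBot ℕ∞) ∧ δ s ≤ 0) :
    Cyc.IsDimFun S δ := by
  intro x y hxy hne
  obtain ⟨U, hU, hyU, -⟩ := exists_isAffineOpen_mem_and_subset (X := S) (x := y) (U := ⊤) trivial
  have hxU : x ∈ U := hxy.mem_open U.2 hyU
  have : IsNoetherianRing Γ(S, U) := IsLocallyNoetherian.component_noetherian ⟨U, hU⟩
  set g := hU.primeIdealOf ⟨x, hxU⟩ with hg
  set p := hU.primeIdealOf ⟨y, hyU⟩ with hp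
  have hgx : hU.fromSpec g = x := hU.fromSpec_primeIdealOf _
  have hpy : hU.fromSpec p = y := hU.fromSpec_primeIdealOf _
  have hle : g.asIdeal ≤ p.asIdeal := (fromSpec_specializes_iff hU g p).1 (by rwa [hgx, hpy])
  have := map_isPrime hle
  let _ := TopCat.Presheaf.algebra_section_stalk S.presheaf ⟨x, hxU⟩
  let _ := TopCat.Presheaf.algebra_section_stalk S.presheaf ⟨y, hyU⟩
  have : IsLocalization.AtPrime (S.presheaf.stalk x) g.asIdeal := hU.isLocalization_stalk ⟨x, hxU⟩
  have : IsLocalization.AtPrime (S.presheaf.stalk y) p.asIdeal := hU.isLocalization_stalk ⟨y, hyU⟩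
  have := hreg y
  have : IsDomain (S.presheaf.stalk y) := DepthLib.isDomain_of_isRegularLocalRing _
  have hsum := GeomUnib.height_eq_add (L := S.presheaf.stalk y) p.asIdeal.primeCompl
    (GeomUnib.heightCat_of_isDomain (huc y)) g.asIdeal p.asIdeal hle (Set.disjoint_left.2 fun z hz hzp => hz hzp)
  obtain ⟨n, hn⟩ := exists_height_eq (p.asIdeal.map (Ideal.Quotient.mk g.asIdeal))
  have hy' : p.asIdeal.height = ((-δ y).toNat : ℕ∞) := by
    have h := (hδ y).1
    rw [IsLocalization.AtPrime.ringKrullDim_eq_height p.asIdeal (S.presheaf.stalk y)] at h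
    exact WithBot.coe_inj.1 h
  have hx' : g.asIdeal.height = ((-δ x).toNat : ℕ∞) := by
    have h := (hδ x).1
    rw [IsLocalization.AtPrime.ringKrullDim_eq_height g.asIdeal (S.presheaf.stalk x)] at h
    exact WithBot.coe_inj.1 h
  rw [hn, hx', hy'] at hsum
  have hsum' : (-δ y).toNat = (-δ x).toNat + n := by exact_mod_cast hsum
  have hkey : δ x = δ y + n := by have := (hδ x).2; have := (hδ y).2; omega
  have hpos : 1 ≤ n := by
    rcases Nat.eq_zero_or_pos n with h0 | h0
    · exfalso
      have e0 : p.asIdeal.map (Ideal.Quotient.mk g.asIdeal) = ⊥ := by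
        by_contra hne'
        exact (height_pos _ hne').ne' (by rw [hn, h0]; rfl)
      refine hne ?_
      rw [← hgx, ← hpy]
      refine congrArg _ (PrimeSpectrum.ext ?_)
      rw [← comap_map_mk hle, e0, ← RingHom.ker_eq_comap_bot, Ideal.mk_ker]
    · exact h0
  refine ⟨by omega, fun himm => ?_⟩
  suffices n ≤ 1 by omega
  by_contra hgt
  obtain ⟨m, rfl⟩ : ∃ m, n = m + 1 := ⟨n - 1, by omega⟩
  obtain ⟨Q, hQ, hQlt, hQh⟩ := exists_pred _ hn
  let z : PrimeSpectrum Γ(S, U) := ⟨Q.comap (Ideal.Quotient.mk g.asIdeal), inferInstance⟩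
  have hz₀ : g.asIdeal ≤ z.asIdeal := fun a ha => by
    show Ideal.Quotient.mk g.asIdeal a ∈ Q
    rw [Ideal.Quotient.eq_zero_iff_mem.2 ha]
    exact zero_mem _
  have hzm : z.asIdeal.map (Ideal.Quotient.mk g.asIdeal) = Q :=
    Ideal.map_comap_of_surjective _ Ideal.Quotient.mk_surjective _
  have hz₁ : z.asIdeal ≤ p.asIdeal := by rw [← comap_map_mk hle]; exact Ideal.comap_mono hQlt.le
  rcases himm (hU.fromSpec z) (hgx ▸ (fromSpec_specializes_iff hU g z).2 hz₀)
      (hpy ▸ (fromSpec_specializes_iff hU z p).2 hz₁) with e' | e'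
  · rw [← hgx] at e'
    rw [hU.fromSpec.isOpenEmbedding.injective e'] at hzm
    rw [← hzm, Ideal.map_quotient_self] at hQh
    have hm : (0 : ℕ∞) = (m : ℕ∞) := Ideal.height_bot.symm.trans hQh
    have : m = 0 := by exact_mod_cast hm.symm
    omega
  · rw [← hpy] at e'
    rw [hU.fromSpec.isOpenEmbedding.injective e'] at hzm
    exact hQlt.ne hzm.symm

end Groth.Agent.DimFun
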